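import Cfsg.Agent.H715.DPU.Def

/-!
# S4247, row PSU: the lift of a Hall subgroup of `PSU_n(q)` to `GU_n(q)` (helper462, task A)

`exists_up_of` : with the conjugacy of the Hall subgroups of `PSU_n(q)` as a hypothesis.
-/

set_option autoImplicit false

namespace Cfsg.Agent.H462.DPU

open Subgroup Cfsg Matrix Cfsg.Agent.H988.CPi Cfsg.Agent.H380.RV Cfsg.Agent.H715.DPU Cfsg.Agent.H808.RV
open Cfsg.Agent.ClassicalGeometry.PSUAutBasic (pr pr_surjective)
open scoped Pointwise

variable {F : Type*} [Field F] {n q : ℕ} {π : Set ℕ}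

theorem jU_injective : Function.Injective (jU n F q) := fun _ _ h =>
  Subtype.ext (Subtype.ext (congrArg (fun x : GU n F q => x.1.1) h))

theorem range_jU : (jU n F q).range = (dGU n F q).ker := by
  ext g
  rw [MonoidHom.mem_range, MonoidHom.mem_ker, Units.ext_iff]
  constructor
  · rintro ⟨x, rfl⟩
    exact x.1.2
  · intro h
    exact ⟨⟨⟨g.1.1, h⟩, fun u v => g.2 u v⟩, Subtype.ext (Units.ext rfl)⟩

/-- Hall subgroups of `SU`, from `GU` -/
theorem hall_comap [Finite F] {H : Subgroup (GU n F q)} (hH : IsPiHall π H) : IsPiHall π (H.comap (jU n F q)) := by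
  have : Finite (GU n F q) := inferInstance
  have hN : ((jU n F q).range).Normal := by rw [range_jU]; infer_instance
  refine ⟨PiN.of_dvd hH.1 (Subgroup.card_comap_dvd_of_injective _ _ jU_injective), ?_⟩
  refine PiN'.of_dvd hH.2 ?_
  rw [Subgroup.index_comap]
  exact ⟨_, (relIndex_mul_sup_index H _).symm⟩

/-- **The lift**, modulo conjugacy in `PSU`. -/
theorem exists_up_of [Finite F] (hO : ∀ H K : Subgroup (PSU n F q), IsPiHall π H → IsPiHall π K →
      ∃ g : PSU n F q, K = MulAut.conj g • H)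
    {P : Subgroup (PSU n F q)} (hP : IsPiHall π P) : ∃ H : Subgroup (GU n F q), Up π P H := by
  have : Finite (SU n F q) := inferInstance
  have : Finite (GU n F q) := inferInstance
  -- the class `C_π`
  have h1 : IsCPiGroup π (PSU n F q) := ⟨⟨P, hP⟩, fun H K hH hK => by
    obtain ⟨g, hg⟩ := hO H K hH hK
    exact ⟨g, by rw [hg, conj_eq]⟩⟩
  have h2 : IsCPiGroup π (SU n F q) := by
    refine cpi_extension (center (SU n F q)) (cpi_of_solvable ?_) h1
    exact Group.isSolvable_of_comm fun a b => Subtype.ext (mem_center_iff.1 b.2 a)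
  have h3 : IsCPiGroup π (dGU n F q).ker := by
    have e : SU n F q ≃* (dGU n F q).ker :=
      (MonoidHom.ofInjective jU_injective).trans (MulEquiv.subgroupCongr range_jU)
    exact cpi_congr e h2
  have h4 : IsCPiGroup π (GU n F q) := by
    refine cpi_extension (dGU n F q).ker h3 (cpi_of_solvable ?_)
    exact Group.isSolvable_of_comm fun a b => QuotientGroup.kerLift_injective (dGU n F q)
      (by rw [map_mul, map_mul, mul_comm])
  obtain ⟨H', hH'⟩ := h4.1
  -- its image in `PSU`
  have h5 : IsPiHall π ((H'.comap (jU n F q)).map (pr n F q)) :=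
    ⟨PiN.of_dvd (hall_comap hH').1 (card_map_dvd _ _),
      PiN'.of_dvd (hall_comap hH').2 (index_map_dvd _ pr_surjective)⟩
  obtain ⟨y, hy⟩ := hO _ _ h5 hP
  obtain ⟨g, rfl⟩ := pr_surjective y
  refine ⟨MulAut.conj (jU n F q g) • H', isPiHall_smul hH' _, fun x => ?_⟩
  rw [hy, Subgroup.mem_pointwise_smul_iff_inv_smul_mem]
  have h6 : (MulAut.conj (pr n F q g))⁻¹ • x = (pr n F q g)⁻¹ * x * pr n F q g := by
    rw [← map_inv, MulAut.smul_def, MulAut.conj_apply, inv_inv]
  rw [h6]
  have h7 : ∀ s : SU n F q, (MulAut.conj (jU n F q g))⁻¹ • jU n F q s = jU n F q (g⁻¹ * s * g) := by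
    intro s
    rw [← map_inv, MulAut.smul_def, MulAut.conj_apply, inv_inv, map_mul, map_mul, map_inv]
  constructor
  · rintro ⟨s, hs, hsx⟩
    refine ⟨g * s * g⁻¹, ?_, ?_⟩
    · rw [Subgroup.mem_pointwise_smul_iff_inv_smul_mem, h7]
      have h8 : g⁻¹ * (g * s * g⁻¹) * g = s := by group
      rw [h8]
      exact hs
    · rw [map_mul, map_mul, map_inv, hsx]
      group
  · rintro ⟨s, hs, rfl⟩
    rw [Subgroup.mem_pointwise_smul_iff_inv_smul_mem, h7] at hs
    exact ⟨g⁻¹ * s * g, hs, by rw [map_mul, map_mul, map_inv]⟩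

end Cfsg.Agent.H462.DPU
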