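import Cfsg.Agent.H462.DPU.UpA
import Cfsg.Agent.H553.OddFin

/-!
# S4247, row PSU: the lift, from the classification (helper462, task A)
-/

set_option autoImplicit false

namespace Cfsg.Agent.H462.DPU

open Subgroup Cfsg Cfsg.Agent.H715.DPU

/-- Task A, with the classification as a hypothesis -/
theorem exists_up_known (hK : ∀ (S : Type) [Group S] [Finite S] [IsSimpleGroup S], IsKnownSimple' S)
    {F : Type} [Field F] [Fintype F] {n q : ℕ} {π : Set ℕ} (h2 : 2 ∉ π)
    {P : Subgroup (PSU n F q)} (hP : IsPiHall π P) : ∃ H : Subgroup (GU n F q), Up π P H := by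
  have : Finite (SU n F q) := inferInstance
  have : Finite (PSU n F q) := Quotient.finite _
  exact exists_up_of (fun H K hH hK' => Cfsg.Agent.H553.ExtRed.odd_final hK π h2 H K hH hK') hP

end Cfsg.Agent.H462.DPU
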